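/-
Coset enumeration data, found by a computer search; checked by `decide +kernel`.
-/
import Cfsg.Agent.Lib.Spor.TC.Check

namespace CfsgLib.Spor.J3.Nineteen

open CfsgLib.Spor.TC

def edgeTbl : Tbl :=
  .bin (.bin (.tip 0x900017000016000092000080001630000a00015100008000031000080000b4000150001430000800015000007000141000130000d30000700013000012000072000060001230000600011000005000103000050000f2000040000e1000040000d00000c000042000030000c3000030000b1000030000a000002000093000020000820000100007300001000062000050000200000100005100000000043000000000320000000002100000000010) (.tip 0x30000000004400000000000000010000040000100001300001000011000000000010000500001400002000004000040000410000400009400009000041)) (.bin (.tip 0xe00009400018000044000010000120000600001400011000004000180000e000004000090000040001740000f0000630000d0000940000400004200005000013000120000f400013000024000090000920000c00004400000000002000050000740001600009400002000022000030000040000a00001400008000024000050000a3000190000540000500015400005000194000190001540000a000104000190001010000a00019300009000181)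 (.none))

def nodeTbl : Tbl :=
  .bin (.tip 0xa3000091000090000083000080000071000070000063000060000053000052000041000040000033000031000030000023000022000013000012000011000003000002000001000000000000) (.none)

def rowTbl : Tbl :=
  .bin (.tip 0x0) (.none)

def rels : List (List ℕ) := [[0, 1, 0, 1], [2, 3, 2, 3], [0, 3, 0, 3, 0, 3], [0, 2, 3, 0, 2, 3, 0, 2, 3], [1, 3, 1, 3, 1, 3, 1, 3, 1, 3], [1, 2, 1, 2, 1, 2, 1, 2, 1, 2, 1, 2], [0, 1, 2, 0, 2, 1, 0, 1, 2, 0, 2, 1], [0, 2, 0, 3, 2, 3, 0, 2, 0, 3, 2, 3], [0, 3, 0, 3, 1, 3, 0, 3, 0, 3, 1, 3], [1, 2, 1, 2, 1, 3, 1, 2, 1, 2, 1, 3], [0, 2, 1, 2, 0, 2, 1, 2, 0, 2, 1, 2, 0, 2, 1, 2, 0, 2, 1, 2], [0, 1, 2, 3, 2, 1, 3, 0, 1, 2, 3, 2, 1, 3, 0, 1, 2, 3, 2, 1, 3], [0, 1, 2, 1, 3, 0, 1, 2, 1, 3, 0, 1, 2, 1, 3, 0, 1, 2, 1, 3, 0, 1, 2, 1, 3], [0, 1, 2, 1, 2, 1, 2, 0, 1, 2, 1, 2, 1, 2, 0, 1, 2, 1, 2, 1, 2, 0, 1, 2, 1, 2, 1, 2, 0, 1, 2, 1, 2, 1, 2], [0, 1, 2, 0, 3, 1, 3]]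

def subs : List (List ℕ) := []

noncomputable def cert : Cert :=
  ⟨4, rels, subs, edgeTbl.get 44, nodeTbl.get 24, rowTbl.get 20⟩

end CfsgLib.Spor.J3.Nineteen
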