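/-
Coset enumeration certificate, found by a computer search.
-/
import Cfsg.Agent.Lib.Spor.J3.Nineteen.Data

namespace CfsgLib.Spor.J3.Nineteen

open CfsgLib.Spor.TC

def scodes0_0 : List ℕ :=
  [0x1,
   0x1,
   0x1,
   0x1,
   0x1,
   0x3000020000a00003000010000100002,
   0x1,
   0x1,
   0x1,
   0x1,
   0x1,
   0x1,
   0x1,
   0x7000060001a00003000010000200002,
   0x1,
   0x1,
   0x1,
   0x1,
   0x1,
   0x1,
   0xf0000e0002800003000020000200002,
   0x1,
   0x1d0000700002000100002c00002000080000300002,
   0x1,
   0x1,
   0x2f0000f0000100004000120003200005000020000f00002,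
   0x1700005000020001000030000330003100002000160000f00002,
   0x180003500004,
   0x31000380001600004000160000100002,
   0x1,
   0x13000120003c00003000030000200002,
   0x1,
   0x1,
   0x1,
   0x230000c0000300006000160004400006000060000f00002,
   0x45000430003a000340002f0000f0000a0002400045000430000b000110000500002,
   0x39000480004500004,
   0x43000480002300004,
   0x490004b00004,
   0x4e0004900004,
   0x440005000004,
   0xb0004e0003100004,
   0xa0004e0003900004,
   0x4000530003800004,
   0x120005400004,
   0x13000530003c00004,
   0xf000550005100004,
   0x60005800004,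
   0x7000570001a00004,
   0x3d0005c00004,
   0xb0005e0002c00004,
   0x210005e0002900004,
   0x100005d00004,
   0x1b0006200004,
   0x13000650002e00004,
   0x280006800004,
   0x3f0006d0001d00004,
   0x400007100004,
   0x1f000740004200003000050000100002,
   0x60000080007400063000130000b00022000700002600008000050000400002,
   0x1000770002500004,
   0xe0007a00004,
   0x6c00074000130000300008000740004200003000050000f00002,
   0x730007d0007600004,
   0x200008000004,
   0x7300081000630001300059000030000800074000820006b000070005f000040001400073000810006300013000590000300008000160000a0000c00002,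
   0x810008300004,
   0x8000840001300004,
   0x1000870000b00004,
   0x40008800004,
   0xa0008a00004,
   0x690008a00004,
   0x20008d0007b0008f0007b0008d0008f000010008b0005f000080006b0008500007000020008d0007b0008f0007b0008d0008f00016000010000c00002,
   0x20009200004,
   0x7000910008f0009200004,
   0x80009500004]

def scodes0_ : List ℕ :=
  scodes0_0

set_option maxRecDepth 100000 in
theorem steps0 : cert.StepsOK 0 76 :=
  Cert.StepsOK.of_check _ (codes := scodes0_) (by decide +kernel)

def rcodes0_0 : List ℕ :=
  [0x970000100005f0000100008b0000100009300001]

def rcodes0_ : List ℕ :=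
  rcodes0_0

set_option maxRecDepth 100000 in
theorem rows0 : cert.RowsOK 76 1 0 1 :=
  Cert.RowsOK.of_check _ (codes := rcodes0_) (by decide +kernel)

end CfsgLib.Spor.J3.Nineteen
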